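import Cfsg.Agent.H795.Szep.LargeAb
import Cfsg.Agent.MonsterU.AmalElts
import Cfsg.Agent.LThreeCo1.Ranks
import Cfsg.Agent.CoFive.FixRank
import Cfsg.Agent.H149.Sp.LinPair
import Cfsg.Agent.LThreeBX.NoSeven
import Cfsg.Agent.MFive.Fus

/-!
# Elements of odd prime order centralizing a large 2-subgroup of the Monster (helper795, for S2273)

`not_dvd` : `2 ^ 43` does not divide the order of the centralizer of an element of odd prime order.
-/

set_option autoImplicit false

namespace Cfsg.Agent.H795.Szep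

open Subgroup Module Cfsg
open Cfsg.Agent.SigZeroCo2.Rank (fix mem_fix)
open Cfsg.Agent.SigZeroCo2.Lin
open Cfsg.Agent.LThreeMB (fr)
open Cfsg.Agent.LThreeBX.NoSeven (exists_odd)
open Cfsg.Agent.MonsterU.Lam2 Cfsg.Agent.MonsterU.Ch
open Cfsg.Spor (Co1)

/-- the number of fixed points on the Leech lattice mod 2 of an element of odd prime order -/
theorem fr_le {s : Co1} {p : ℕ} (hp : p.Prime) (h2 : p ≠ 2) (hs : orderOf s = p) : fr s ≤ 2 ^ 20 := by
  by_cases h3 : p = 3
  · subst h3
    rcases LThreeCo1.Ranks.ranks s hs with h | h | h | h <;> rw [h] <;> norm_num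
  have h5 : 5 ≤ p := by
    have := hp.two_le
    by_contra hcon
    have h4 : p = 4 := by omega
    rw [h4] at hp
    exact absurd hp (by norm_num)
  have hop : Odd p := hp.odd_of_ne_two h2
  obtain ⟨a, rfl, ha⟩ := exists_odd hop (show s ^ p = 1 by rw [← hs, pow_orderOf_eq_one])
  have hfr := CoFive.FixRank.fr_eq hop ha
  have hS : finrank ℚ Sp = 24 := by
    rw [Module.finrank_pi]
    rfl
  have h1 := H149.Sp.finrank_fix_add_le (p := p) hp (f := rep a) (by rw [← map_pow, ha, map_one]) (by
    intro h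
    rw [← map_one rep] at h
    have h6 := rep_injective h
    rw [h6] at hs
    change orderOf (1 : Co1) = p at hs
    rw [orderOf_one] at hs
    exact hp.one_lt.ne hs)
  rw [hS] at h1
  change fr (QuotientGroup.mk a : Co1) ≤ 2 ^ 20
  rw [hfr]
  exact Nat.pow_le_pow_right (by norm_num) (by omega)

variable {G : Type*} [Group G] {Q : Subgroup G} {z : G} {eta : G → L2}
  {pi : Subgroup.centralizer ({z} : Set G) →* Co1}

/-- a subgroup of `Q` centralized by `c` -/
theorem card_le_fr (h : Chart Q z eta pi) (A : Subgroup G) (hA : A ≤ Q) (c : Subgroup.centralizer ({z} : Set G))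
    (hc : ∀ x ∈ A, (c : G) * x = x * c) : Nat.card A ≤ 2 * fr (pi c) := by
  have := h.fin
  have hfA : Finite A := Finite.of_injective _ (inclusion_injective hA)
  have hfL : Finite L2 := Nat.finite_of_card_ne_zero (by rw [card_L2]; norm_num)
  let f : A →* Multiplicative L2 :=
    { toFun := fun x => Multiplicative.ofAdd (eta x)
      map_one' := by
        show Multiplicative.ofAdd (eta 1) = 1
        rw [h.eta_one]
        rfl
      map_mul' := fun x y => by
        show Multiplicative.ofAdd (eta ((x : G) * y)) = _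
        rw [h.eta_mul _ (hA x.2) _ (hA y.2)]
        rfl }
  have h1 := f.ker.card_mul_index
  rw [index_ker] at h1
  rw [← h1]
  refine Nat.mul_le_mul ?_ ?_
  · -- the kernel
    let g : f.ker → Bool := fun x => @decide (((x : A) : G) = 1) (Classical.dec _)
    have hg : Function.Injective g := by
      intro x y hxy
      have hz : ∀ x : f.ker, ((x : A) : G) = 1 ∨ ((x : A) : G) = z := fun x =>
        (h.eta_zero _ (hA (x : A).2)).1 (MonoidHom.mem_ker.1 x.2)
      have e : (((x : A) : G) = 1) ↔ (((y : A) : G) = 1) := by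
        have e1 : @decide (((x : A) : G) = 1) (Classical.dec _) = @decide (((y : A) : G) = 1) (Classical.dec _) := hxy
        rwa [decide_eq_decide] at e1
      apply Subtype.ext
      apply Subtype.ext
      by_cases hx1 : ((x : A) : G) = 1
      · rw [hx1, e.1 hx1]
      · rw [(hz x).resolve_left hx1, (hz y).resolve_left fun h2 => hx1 (e.2 h2)]
    have h2 := Nat.card_le_card_of_injective g hg
    rwa [Nat.card_eq_fintype_card (α := Bool), Fintype.card_bool] at h2
  · -- the image
    let g : f.range → {v : L2 // pi c • v = v} := fun v => ⟨Multiplicative.toAdd (v : Multiplicative L2), by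
      obtain ⟨v, x, rfl⟩ := v
      show pi c • eta (x : G) = eta (x : G)
      rw [← h.eta_conj c _ (hA x.2), hc _ x.2]
      congr 1
      group⟩
    refine Nat.card_le_card_of_injective g ?_
    intro v w hvw
    have h3 : ((g v : {v : L2 // pi c • v = v}) : L2) = (g w : {v : L2 // pi c • v = v}) := by rw [hvw]
    exact Subtype.ext h3

/-- **`2 ^ 43` does not divide the order of the centralizer of an element of odd prime order.** -/
theorem not_dvd [Finite G] (h : Chart Q z eta pi) (hG : ¬ 2 ^ 47 ∣ Nat.card G) {b : G} {p : ℕ} (hp : p.Prime)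
    (h2 : p ≠ 2) (hb : orderOf b = p) : ¬ 2 ^ 43 ∣ Nat.card (centralizer ({b} : Set G)) := by
  intro hd
  have : Fact (Nat.Prime 2) := ⟨Nat.prime_two⟩
  obtain ⟨T0, hT0⟩ := Sylow.exists_subgroup_card_pow_prime 2 hd
  have hQ2 : IsPGroup 2 Q := IsPGroup.of_card (n := 25) h.card_Q
  obtain ⟨S, hS⟩ := hQ2.exists_le_sylow
  have hT1c : Nat.card (T0.map (centralizer ({b} : Set G)).subtype) = 2 ^ 43 := by
    rw [card_map_of_injective (subtype_injective _), hT0]
  obtain ⟨S', hS'⟩ := (IsPGroup.of_card (n := 43) hT1c).exists_le_sylow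
  obtain ⟨g, hg⟩ := MulAction.exists_smul_eq G S' S
  set T : Subgroup G := (T0.map (centralizer ({b} : Set G)).subtype).map (MulAut.conj g).toMonoidHom with hT
  have hTc : Nat.card T = 2 ^ 43 := by
    rw [hT, card_map_of_injective (MulAut.conj g).injective, hT1c]
  have hTS : T ≤ S := by
    rintro _ ⟨x, hx, rfl⟩
    rw [← hg]
    exact ⟨x, hS' hx, rfl⟩
  have hTb : ∀ x ∈ T, (g * b * g⁻¹) * x = x * (g * b * g⁻¹) := by
    rintro _ ⟨_, ⟨x, hx, rfl⟩, rfl⟩
    have h1 : (x : G) * b = b * x := mem_centralizer_singleton_iff.1 x.2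
    show g * b * g⁻¹ * (g * (x : G) * g⁻¹) = g * (x : G) * g⁻¹ * (g * b * g⁻¹)
    calc g * b * g⁻¹ * (g * (x : G) * g⁻¹) = g * (b * x) * g⁻¹ := by group
      _ = g * (x * b) * g⁻¹ := by rw [h1]
      _ = _ := by group
  -- the order of the intersection with `Q`
  have hSc : Nat.card (S : Subgroup G) ≤ 2 ^ 46 := by
    obtain ⟨n, hn⟩ := IsPGroup.iff_card.1 S.2
    have hn' : Nat.card (S : Subgroup G) = 2 ^ n := hn
    rw [hn']
    apply Nat.pow_le_pow_right (by norm_num)
    by_contra hcon
    push Not at hcon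
    exact hG ((pow_dvd_pow 2 (show 47 ≤ n by omega)).trans (hn' ▸ card_subgroup_dvd_card _))
  have h1 : T.relIndex S * Nat.card T = Nat.card (S : Subgroup G) := by
    have := relIndex_mul_relIndex ⊥ T (S : Subgroup G) bot_le hTS
    rw [relIndex_bot_left, relIndex_bot_left] at this
    rw [mul_comm]
    exact this
  have h3 : T.relIndex S ≤ 8 := by
    by_contra hcon
    push Not at hcon
    have h4 : 9 * 2 ^ 43 ≤ 2 ^ 46 := by
      calc 9 * 2 ^ 43 ≤ T.relIndex S * 2 ^ 43 := Nat.mul_le_mul_right _ hcon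
        _ = Nat.card (S : Subgroup G) := by rw [← h1, hTc]
        _ ≤ 2 ^ 46 := hSc
    norm_num at h4
  have h4 : T.relIndex Q ≤ 8 := (relIndex_le_of_le_right hS (by
    intro h4
    rw [h4, zero_mul] at h1
    exact Nat.card_pos.ne h1)).trans h3
  have h5 : 2 ^ 22 ≤ Nat.card (T ⊓ Q : Subgroup G) := by
    have h6 := relIndex_mul_relIndex ⊥ (T ⊓ Q) Q bot_le inf_le_right
    rw [relIndex_bot_left, relIndex_bot_left, inf_relIndex_right, h.card_Q] at h6
    by_contra hcon
    push Not at hcon
    have h7 : Nat.card (T ⊓ Q : Subgroup G) * T.relIndex Q < 2 ^ 22 * 8 :=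
      lt_of_le_of_lt (Nat.mul_le_mul_left _ h4) (Nat.mul_lt_mul_of_pos_right hcon (by norm_num))
    rw [h6] at h7
    norm_num at h7
  have := h.fin
  have hz : z ∈ T ⊓ Q := by
    refine z_mem_of_card h.large _ inf_le_right ?_
    rw [h.card_Q]
    calc 2 * 2 ^ 25 < (2 ^ 22) ^ 2 := by norm_num
      _ ≤ _ := Nat.pow_le_pow_left h5 2
  have hbz : g * b * g⁻¹ ∈ centralizer ({z} : Set G) :=
    mem_centralizer_singleton_iff.2 (hTb z hz.1)
  have hbo : orderOf (⟨g * b * g⁻¹, hbz⟩ : centralizer ({z} : Set G)) = p := by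
    rw [orderOf_mk, ← hb]
    exact orderOf_injective (MulAut.conj g).toMonoidHom (MulAut.conj g).injective b
  have h6 := MFive.orderOf_pi h hp (hp.odd_of_ne_two h2) hbo
  have h7 := card_le_fr h (T ⊓ Q) inf_le_right ⟨g * b * g⁻¹, hbz⟩ fun x hx => hTb x hx.1
  have h8 := fr_le hp h2 h6
  have h9 : 2 ^ 22 ≤ 2 * 2 ^ 20 := h5.trans (h7.trans (Nat.mul_le_mul_left _ h8))
  norm_num at h9

end Cfsg.Agent.H795.Szep
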