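import Cfsg.Agent.H795.Szep.MonCore
import Cfsg.Agent.H795.Szep.MonFix
import Cfsg.Agent.H848.MonsterSetup
import Cfsg.Agent.H713.Spor.MOf

/-!
# The Monster is not the product of two centralizers (helper795, for S2273)
-/

set_option autoImplicit false

namespace Cfsg.Agent.H795.Szep

open Subgroup Cfsg Cfsg.Agent.H105.Sz Cfsg.Agent.H995.CopEngine

/-- the orders of the centralizers of the involutions -/
theorem card_cent (b : Spor.Monster) (hb : orderOf b = 2) :
    Nat.card (centralizer ({b} : Set Spor.Monster)) = 2 ^ 25 * 4157776806543360000 ∨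
      Nat.card (centralizer ({b} : Set Spor.Monster)) = 2 * 4154781481226426191177580544000000 := by
  obtain ⟨e⟩ := Cfsg.Agent.MonsterP.Equiv.equiv
  have h1 := Cfsg.Agent.H713.Spor.MOf.card_cent Cfsg.Agent.MonsterU.Uncond.all (e b) (by rw [MulEquiv.orderOf_eq, hb])
  have h2 : centralizer ({e b} : Set _) = (centralizer ({b} : Set Spor.Monster)).map e.toMonoidHom := by
    ext x
    rw [mem_map_equiv, mem_centralizer_singleton_iff, mem_centralizer_singleton_iff]
    constructor
    · intro h
      apply e.injective
      rw [map_mul, map_mul, e.apply_symm_apply, h]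
    · intro h
      have h3 := congrArg e h
      rwa [map_mul, map_mul, e.apply_symm_apply] at h3
  have h3 : Nat.card (centralizer ({e b} : Set _)) = Nat.card (centralizer ({b} : Set Spor.Monster)) := by
    rw [h2]
    exact card_map_of_injective e.injective
  rw [h3] at h1
  simpa only [List.mem_cons, List.not_mem_nil, or_false] using h1

theorem szep_monster (hK : AllKnown.{0}) : Szep Spor.Monster := by
  have hs := Cfsg.Agent.H848.MonsterSetup.simple
  have hf := Cfsg.Agent.H848.MonsterSetup.finite
  have hc := Cfsg.Agent.H848.MonsterSetup.card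
  obtain ⟨Q, z, eta, pi, h⟩ := Cfsg.Agent.H848.MonsterSetup.exists_chart
  exact core hK hc (fun b p hp h2 hb => not_dvd h (by rw [hc]; norm_num) hp h2 hb) card_cent

/-- **The Monster.** -/
theorem szep_m (hK : AllKnown.{0}) {G : Type*} [Group G] (h : Spor.IsoM G) : Szep G := by
  obtain ⟨e⟩ := h
  exact (szep_monster hK).of_equiv e

end Cfsg.Agent.H795.Szep
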