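import Cfsg.Agent.Co2Type.Quad
import Mathlib

/-!
# Commutative subgroups of a large extraspecial subgroup (helper795)

`card_sq_le` : a commutative subgroup `A` of `Q` satisfies `|A| ^ 2 ≤ 2 |Q|`; `z_mem_of_card`: a larger subgroup of `Q`
contains `z`.
-/

set_option autoImplicit false

namespace Cfsg.Agent.H795.Szep

open Subgroup Cfsg.Agent.Co2Type.Quad Module

variable {G : Type*} [Group G] {Q : Subgroup G} {z : G}

theorem card_sq_le [Finite Q] (h : Large Q z) (A : Subgroup G) (hA : A ≤ Q)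
    (hc : ∀ x ∈ A, ∀ y ∈ A, x * y = y * x) : Nat.card A ^ 2 ≤ 2 * Nat.card Q := by
  have hfV : Finite h.V := Finite.of_surjective h.pr h.pr_surjective
  have hfA : Finite A := Finite.of_injective _ (inclusion_injective hA)
  -- the image
  let W0 : AddSubgroup h.V :=
    { carrier := {v | ∃ x : Q, (x : G) ∈ A ∧ h.pr x = v}
      zero_mem' := ⟨1, A.one_mem, h.pr_one⟩
      add_mem' := by
        rintro _ _ ⟨x, hx, rfl⟩ ⟨y, hy, rfl⟩
        exact ⟨x * y, A.mul_mem hx hy, h.pr_mul x y⟩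
      neg_mem' := by
        rintro _ ⟨x, hx, rfl⟩
        exact ⟨x⁻¹, A.inv_mem hx, h.pr_inv x⟩ }
  let W : Submodule (ZMod 2) h.V := AddSubgroup.toZModSubmodule 2 W0
  have hmem : ∀ v, v ∈ W ↔ ∃ x : Q, (x : G) ∈ A ∧ h.pr x = v := fun v => Iff.rfl
  have hnd : h.b.Nondegenerate :=
    ⟨fun v hv => h.b_nondeg hv, fun v hv => h.b_nondeg fun w => by rw [h.b_comm]; exact hv w⟩
  have hle : W ≤ h.b.orthogonal W := by
    intro v hv
    rw [LinearMap.BilinForm.mem_orthogonal_iff]
    intro w hw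
    obtain ⟨x, hx, rfl⟩ := (hmem v).1 hv
    obtain ⟨y, hy, rfl⟩ := (hmem w).1 hw
    exact (h.b_pr y x).2 (hc y hy x hx)
  have h1 := LinearMap.BilinForm.finrank_orthogonal hnd W
  have h2 := Submodule.finrank_mono hle
  have h3 : finrank (ZMod 2) W ≤ finrank (ZMod 2) h.V := Submodule.finrank_le W
  have h4 : 2 * finrank (ZMod 2) W ≤ finrank (ZMod 2) h.V := by omega
  have hcV : Nat.card h.V = 2 ^ finrank (ZMod 2) h.V := by
    rw [Module.natCard_eq_pow_finrank (K := ZMod 2), Nat.card_zmod]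
  have hcW : Nat.card W = 2 ^ finrank (ZMod 2) W := by
    rw [Module.natCard_eq_pow_finrank (K := ZMod 2), Nat.card_zmod]
  -- the fibres
  let f : A → W × Bool := fun x => (⟨h.pr ⟨x, hA x.2⟩, (hmem _).2 ⟨_, x.2, rfl⟩⟩,
    @decide ((x : G) = (Function.surjInv h.pr_surjective (h.pr ⟨x, hA x.2⟩) : Q)) (Classical.dec _))
  have hf : Function.Injective f := by
    intro x y hxy
    have e1 : h.pr ⟨x, hA x.2⟩ = h.pr ⟨y, hA y.2⟩ := congrArg Subtype.val (congrArg Prod.fst hxy)
    have e2 := congrArg Prod.snd hxy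
    set s : Q := Function.surjInv h.pr_surjective (h.pr ⟨x, hA x.2⟩) with hs
    have hs1 : h.pr s = h.pr ⟨x, hA x.2⟩ := Function.surjInv_eq h.pr_surjective _
    have e3 : ((x : G) = s) ↔ ((y : G) = s) := by
      have e4 : @decide ((x : G) = (Function.surjInv h.pr_surjective (h.pr ⟨x, hA x.2⟩) : Q)) (Classical.dec _) =
        @decide ((y : G) = (Function.surjInv h.pr_surjective (h.pr ⟨y, hA y.2⟩) : Q)) (Classical.dec _) := e2
      rw [decide_eq_decide, ← e1] at e4
      exact e4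
    apply Subtype.ext
    rcases h.pr_eq_pr.1 hs1 with h5 | h5
    · have h5' : (s : G) = x := h5
      rw [← h5', e3.1 h5'.symm]
    · have h6 : ¬ (x : G) = s := by
        intro h7
        have h8 : (s : G) = x * z := h5
        rw [h7] at h8
        exact h.z_ne (by simpa using h8.symm)
      have h7 : ¬ (y : G) = s := fun h8 => h6 (e3.2 h8)
      have h9 : h.pr s = h.pr ⟨y, hA y.2⟩ := hs1.trans e1
      rcases h.pr_eq_pr.1 h9 with h10 | h10
      · exact absurd h10.symm h7
      · have h11 : (s : G) = x * z := h5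
        have h12 : (s : G) = y * z := h10
        exact mul_right_cancel (h11.symm.trans h12)
  have h5 : Nat.card A ≤ 2 * Nat.card W := by
    have h6 := Nat.card_le_card_of_injective f hf
    rw [Nat.card_prod, Nat.card_eq_fintype_card (α := Bool), Fintype.card_bool] at h6
    omega
  rw [h.card_eq, hcV]
  calc Nat.card A ^ 2 ≤ (2 * Nat.card W) ^ 2 := Nat.pow_le_pow_left h5 2
    _ = 4 * 2 ^ (2 * finrank (ZMod 2) W) := by rw [hcW, mul_pow, ← pow_mul, mul_comm (finrank _ _) 2]; norm_num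
    _ ≤ 4 * 2 ^ finrank (ZMod 2) h.V := Nat.mul_le_mul_left _ (Nat.pow_le_pow_right (by norm_num) h4)
    _ = 2 * (2 * 2 ^ finrank (ZMod 2) h.V) := by ring

/-- a large subgroup of `Q` contains `z` -/
theorem z_mem_of_card [Finite Q] (h : Large Q z) (A : Subgroup G) (hA : A ≤ Q)
    (hc : 2 * Nat.card Q < Nat.card A ^ 2) : z ∈ A := by
  by_contra hz
  refine absurd (card_sq_le h A hA fun x hx y hy => ?_) (not_le.2 hc)
  rcases h.comm x (hA hx) y (hA hy) with h1 | h1
  · exact h1
  · exfalso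
    apply hz
    have h2 : z = (y * x)⁻¹ * (x * y) := by rw [h1]; group
    rw [h2]
    exact A.mul_mem (A.inv_mem (A.mul_mem hy hx)) (A.mul_mem hx hy)

end Cfsg.Agent.H795.Szep
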