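import Cfsg.Agent.H95.Szep.Basic
import Cfsg.Agent.H995.CopCoprime
import Cfsg.Agent.H149.Sp.Engine

/-!
# The Monster is not the product of two centralizers: the numerical part (helper795, for S2273)

`core` : from the order, the orders of the centralizers of involutions, and the fact that `2 ^ 43` does not divide the
order of the centralizer of an element of odd prime order.
-/

set_option autoImplicit false

namespace Cfsg.Agent.H795.Szep

open Subgroup Cfsg.Agent.H105.Sz Cfsg.Agent.H95.Szep Cfsg.Agent.H995.CopEngine Cfsg.Agent.H393.Iso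
open Cfsg.Agent.H149.Sp.Eng Cfsg.Agent.H530.Cop

/-- the factorization of `|M|` -/
def lM : List (ℕ × ℕ) := [(2, 46), (3, 20), (5, 9), (7, 6), (11, 2), (13, 3), (17, 1), (19, 1), (23, 1), (29, 1), (31, 1),
  (41, 1), (47, 1), (59, 1), (71, 1)]

theorem lM_valid : OrdDiv.valid lM 808017424794512875886459904961710757005754368000000000 = true := by decide +kernel

theorem chk59 : chkOne lM 808017424794512875886459904961710757005754368000000000 59 102660 = true := by decide +kernel

theorem pow_dvd_of {p m n x y : ℕ} (hp : p.Prime) (hx : x ≠ 0) (hy : y ≠ 0) (h : p ^ (m + n) ∣ x * y)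
    (hn : ¬ p ^ (m + 1) ∣ x) : p ^ n ∣ y := by
  rw [hp.pow_dvd_iff_le_factorization (mul_ne_zero hx hy), Nat.factorization_mul hx hy, Finsupp.add_apply] at h
  rw [hp.pow_dvd_iff_le_factorization hx] at hn
  rw [hp.pow_dvd_iff_le_factorization hy]
  omega

/-- the remaining part of the order of `C(w)` -/
def lF : List (ℕ × ℕ) := [(3, 10), (5, 5), (7, 2), (11, 1), (13, 1), (23, 1), (29, 1)]

theorem ok_core : okPair (2 ^ 46 * prodL lF) lF [2, 29, 58] 171749 (fun _ => false) = true := by decide +kernel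

section

variable {G : Type} [Group G] [Finite G]

theorem not_of_na {p : ℕ} (hp : p.Prime) (h : NA p G) (t : G) (ht : orderOf t = 2) :
    ¬ p ∣ Nat.card (centralizer ({t} : Set G)) := by
  intro hd
  have : Fact p.Prime := ⟨hp⟩
  obtain ⟨x, hx⟩ := exists_prime_orderOf_dvd_card' p hd
  exact h x t (by rw [Subgroup.orderOf_coe, hx]) ht (mem_centralizer_singleton_iff.1 x.2)

/-- the engine for the prime 59 -/
theorem eng59 (hK : AllKnown.{0}) (hc : Nat.card G = 808017424794512875886459904961710757005754368000000000)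
    (n59 : NA 59 G) {H : Subgroup G} (hH : H ≠ ⊤) (hd : 59 ∣ Nat.card H) :
    ∃ K : Subgroup H, K.Normal ∧ ¬ 59 ∣ Nat.card K ∧ K.index ∣ 59 * (59 - 1) * (59 + 1) ∧ ¬ 2 ∣ Nat.card K := by
  obtain ⟨K, hKn, h59K, hidx⟩ := exists_normal hK hH hc lM_valid (by norm_num) hd
    (by norm_num) chk59 (dvd_mod_one (by norm_num) 1740 30 (by norm_num) (by norm_num) (by norm_num) (by decide))
  have hcondG : ∀ i, 1 ≤ i → 2 ^ i ∣ Nat.card G → ¬ 59 ∣ 2 ^ i - 1 := by
    rw [hc]
    exact cond_of_chk (m := 46) Nat.prime_two (by norm_num) (by decide +kernel)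
  exact ⟨K, hKn, h59K, hidx, odd_of_isolated (by norm_num) (by norm_num) K h59K hd hcondG
    (not_of_na (by norm_num) n59)⟩

theorem two_part {H : Type} [Group H] [Finite H] (K : Subgroup H) {n j : ℕ} (hn : K.index ∣ n)
    (hj : ¬ 2 ^ (j + 1) ∣ n) (h2 : ¬ 2 ∣ Nat.card K) : ¬ 2 ^ (j + 1) ∣ Nat.card H := by
  intro h
  apply h2
  have := pow_dvd_normal K (k := 1) (j := j) Nat.prime_two (by rwa [add_comm]) hn hj
  rwa [pow_one] at this

variable [IsSimpleGroup G]

/-- **The numerical part.** -/
theorem core (hK : AllKnown.{0}) (hc : Nat.card G = 808017424794512875886459904961710757005754368000000000)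
    (hodd : ∀ (b : G) (p : ℕ), p.Prime → p ≠ 2 → orderOf b = p → ¬ 2 ^ 43 ∣ Nat.card (centralizer ({b} : Set G)))
    (htwo : ∀ b : G, orderOf b = 2 → Nat.card (centralizer ({b} : Set G)) = 2 ^ 25 * 4157776806543360000 ∨
      Nat.card (centralizer ({b} : Set G)) = 2 * 4154781481226426191177580544000000) : Szep G := by
  have hNA : ∀ p : ℕ, ¬ p ∣ 2 ^ 25 * 4157776806543360000 → ¬ p ∣ 2 * 4154781481226426191177580544000000 → NA p G := by
    intro p h1 h2 x t hx ht hxt
    have h3 : p ∣ Nat.card (centralizer ({t} : Set G)) := by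
      rw [← hx]
      exact Subgroup.orderOf_dvd_natCard _ (mem_centralizer_singleton_iff.2 hxt)
    rcases htwo t ht with h | h <;> rw [h] at h3
    · exact h1 h3
    · exact h2 h3
  have n41 : NA 41 G := hNA 41 (by norm_num) (by norm_num)
  have n59 : NA 59 G := hNA 59 (by norm_num) (by norm_num)
  have n71 : NA 71 G := hNA 71 (by norm_num) (by norm_num)
  have hna : ¬ IsMulCommutative G := by
    intro hm
    have h1 : ¬ (Nat.card G).Prime := by rw [hc]; norm_num
    apply h1
    let _ : CommGroup G := { (inferInstance : Group G) with mul_comm := hm.is_comm.comm }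
    exact IsSimpleGroup.prime_card
  refine szep_of' (r := 59) (by norm_num) (by rw [hc]; norm_num) fun a b ha hb hF h59 => ?_
  have ha1 := ne_one_of_prime ha
  have hHt : centralizer ({a} : Set G) ≠ ⊤ := cent_ne_top hna ha1
  have hdvd := hF.card_dvd
  rw [hc] at hdvd
  set H := centralizer ({a} : Set G) with hH
  have hA0 : Nat.card H ≠ 0 := Nat.card_pos.ne'
  have hB0 : Nat.card (centralizer ({b} : Set G)) ≠ 0 := Nat.card_pos.ne'
  obtain ⟨K, hKn, h59K, hidx, hK2⟩ := eng59 hK hc n59 hHt h59
  have h4 : ¬ 2 ^ (3 + 1) ∣ Nat.card H := two_part K hidx (by norm_num) hK2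
  have h43 : 2 ^ 43 ∣ Nat.card (centralizer ({b} : Set G)) :=
    pow_dvd_of (m := 3) (n := 43) Nat.prime_two hA0 hB0 ((by norm_num : 2 ^ (3 + 43) ∣
      808017424794512875886459904961710757005754368000000000).trans hdvd) h4
  have hb2 : orderOf b = 2 := by
    by_contra h
    exact hodd b _ hb h rfl h43
  have hcb : Nat.card (centralizer ({b} : Set G)) = 2 ^ 25 * 4157776806543360000 := by
    rcases htwo b hb2 with h | h
    · exact h
    · rw [h] at h43
      exact absurd h43 (by norm_num)
  -- the order of `C(a)`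
  have full : ∀ {p m n : ℕ}, p.Prime → p ^ (m + n) ∣ 808017424794512875886459904961710757005754368000000000 →
      ¬ p ^ (m + 1) ∣ 2 ^ 25 * 4157776806543360000 → p ^ n ∣ Nat.card H := by
    intro p m n hp h1 h2
    refine pow_dvd_of (m := m) hp hB0 hA0 (h1.trans ?_) (by rw [hcb]; exact h2)
    rw [mul_comm]
    exact hdvd
  have : Fact (Nat.Prime 59) := ⟨by norm_num⟩
  obtain ⟨w, hw⟩ := exists_prime_orderOf_dvd_card' 59 h59
  have hw' : orderOf (w : G) = 59 := by rw [Subgroup.orderOf_coe]; exact hw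
  have key : ∀ {p m k j e : ℕ}, p.Prime → p ≠ 59 →
      p ^ (m + (k + j)) ∣ 808017424794512875886459904961710757005754368000000000 →
      ¬ p ^ (m + 1) ∣ 2 ^ 25 * 4157776806543360000 → ¬ p ^ (j + 1) ∣ 59 * (59 - 1) * (59 + 1) →
      ¬ p ^ (e + 1) ∣ 808017424794512875886459904961710757005754368000000000 → condB 59 p e = true →
      p ^ k ∣ Nat.card (centralizer ({(w : G)} : Set G)) := by
    intro p m k j e hp hp59 h1 h2 h3 h5 h6
    have h7 := pow_dvd_normal K hp (full hp h1 h2) hidx h3
    exact pow_dvd_centralizer (by norm_num) K h59K hw hp hp59 h7 (by rw [hc]; exact cond_of_chk hp h5 h6)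
  set c := Nat.card (centralizer ({(w : G)} : Set G)) with hcdef
  have c59 : 59 ^ 1 ∣ c := by
    rw [pow_one]
    conv_lhs => rw [← hw']
    exact Subgroup.orderOf_dvd_natCard _ (mem_centralizer_singleton_iff.2 rfl)
  have c3 : 3 ^ 10 ∣ c := key (m := 9) (k := 10) (j := 1) (e := 20) (by norm_num) (by norm_num) (by norm_num)
    (by norm_num) (by norm_num) (by norm_num) (by decide +kernel)
  have c5 : 5 ^ 4 ∣ c := key (m := 4) (k := 4) (j := 1) (e := 9) (by norm_num) (by norm_num) (by norm_num)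
    (by norm_num) (by norm_num) (by norm_num) (by decide +kernel)
  have c7 : 7 ^ 4 ∣ c := key (m := 2) (k := 4) (j := 0) (e := 6) (by norm_num) (by norm_num) (by norm_num)
    (by norm_num) (by norm_num) (by norm_num) (by decide +kernel)
  have c11 : 11 ^ 1 ∣ c := key (m := 1) (k := 1) (j := 0) (e := 2) (by norm_num) (by norm_num) (by norm_num)
    (by norm_num) (by norm_num) (by norm_num) (by decide +kernel)
  have c13 : 13 ^ 2 ∣ c := key (m := 1) (k := 2) (j := 0) (e := 3) (by norm_num) (by norm_num) (by norm_num)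
    (by norm_num) (by norm_num) (by norm_num) (by decide +kernel)
  have c17 : 17 ^ 1 ∣ c := key (m := 0) (k := 1) (j := 0) (e := 1) (by norm_num) (by norm_num) (by norm_num)
    (by norm_num) (by norm_num) (by norm_num) (by decide +kernel)
  have c19 : 19 ^ 1 ∣ c := key (m := 0) (k := 1) (j := 0) (e := 1) (by norm_num) (by norm_num) (by norm_num)
    (by norm_num) (by norm_num) (by norm_num) (by decide +kernel)
  have c31 : 31 ^ 1 ∣ c := key (m := 0) (k := 1) (j := 0) (e := 1) (by norm_num) (by norm_num) (by norm_num)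
    (by norm_num) (by norm_num) (by norm_num) (by decide +kernel)
  have c41 : 41 ^ 1 ∣ c := key (m := 0) (k := 1) (j := 0) (e := 1) (by norm_num) (by norm_num) (by norm_num)
    (by norm_num) (by norm_num) (by norm_num) (by decide +kernel)
  have c47 : 47 ^ 1 ∣ c := key (m := 0) (k := 1) (j := 0) (e := 1) (by norm_num) (by norm_num) (by norm_num)
    (by norm_num) (by norm_num) (by norm_num) (by decide +kernel)
  have c71 : 71 ^ 1 ∣ c := key (m := 0) (k := 1) (j := 0) (e := 1) (by norm_num) (by norm_num) (by norm_num)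
    (by norm_num) (by norm_num) (by norm_num) (by decide +kernel)
  have cop : ∀ {x y n : ℕ}, x ∣ n → y ∣ n → Nat.Coprime x y → x * y ∣ n :=
    fun h1 h2 h3 => Nat.Coprime.mul_dvd_of_dvd_of_dvd h3 h1 h2
  have hM : 13314363375889615257343125 ∣ c := by
    have e1 : (13314363375889615257343125 : ℕ) = 59 ^ 1 * 3 ^ 10 * 5 ^ 4 * 7 ^ 4 * 11 ^ 1 * 13 ^ 2 * 17 ^ 1 * 19 ^ 1 *
      31 ^ 1 * 41 ^ 1 * 47 ^ 1 * 71 ^ 1 := by norm_num
    rw [e1]
    exact cop (cop (cop (cop (cop (cop (cop (cop (cop (cop (cop c59 c3 (by norm_num)) c5 (by norm_num)) c7 (by norm_num))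
      c11 (by norm_num)) c13 (by norm_num)) c17 (by norm_num)) c19 (by norm_num)) c31 (by norm_num)) c41 (by norm_num))
      c47 (by norm_num)) c71 (by norm_num)
  obtain ⟨f, hf⟩ := hM
  -- the normalizer
  have hs2 : ¬ 59 ^ 2 ∣ Nat.card G := by rw [hc]; norm_num
  obtain ⟨c', k, hc1, hc2, ho, hk, hk1, hi59, -⟩ := single (by norm_num) hs2 (by rw [hc]; norm_num) n59 hw'
  have hcc : 59 * c' = 13314363375889615257343125 * f := hc1.symm.trans hf
  have hg : ∀ p i : ℕ, p.Prime → p ≠ 59 → p ≠ 2 → 0 < i → p ^ i ∣ Nat.card G → ¬ 59 ∣ p ^ i - 1 :=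
    good_of_ok (L := lM) (by simp [lM]; norm_num) (by decide) (by decide +kernel) (by rw [hc]; decide +kernel)
  have other : ∀ {r : ℕ}, r.Prime → NA r G → ¬ r ^ 2 ∣ Nat.card G → r ^ 1 ∣ c → (Nm (w : G)).index % r = 1 := by
    intro r hr nr hr2 hrc
    have : Fact r.Prime := ⟨hr⟩
    rw [pow_one] at hrc
    obtain ⟨u, hu⟩ := exists_prime_orderOf_dvd_card' r hrc
    have hu' : orderOf (u : G) = r := by rw [Subgroup.orderOf_coe]; exact hu
    have huw : (u : G) * w = w * u := mem_centralizer_singleton_iff.1 u.2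
    exact index_mod_of_le hr hr2 hu' (nm_le_nm (by norm_num) hs2 nr hu' hw' huw hg)
  have hi71 := other (r := 71) (by norm_num) n71 (by rw [hc]; norm_num) c71
  have hi41 := other (r := 41) (by norm_num) n41 (by rw [hc]; norm_num) c41
  have hi : (Nm (w : G)).index % 171749 = 1 := by
    have e1 : (Nm (w : G)).index ≡ 1 [MOD 59] := hi59
    have e2 : (Nm (w : G)).index ≡ 1 [MOD 71] := hi71
    have e3 : (Nm (w : G)).index ≡ 1 [MOD 41] := hi41
    have e4 := (Nat.modEq_and_modEq_iff_modEq_mul (by norm_num : Nat.Coprime 59 71)).1 ⟨e1, e2⟩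
    have e5 := (Nat.modEq_and_modEq_iff_modEq_mul (by norm_num : Nat.Coprime (59 * 71) 41)).1 ⟨e4, e3⟩
    exact e5
  have hfin := (Nm (w : G)).card_mul_index
  rw [hc2, hc, hcc] at hfin
  have hfin' : f * k * (Nm (w : G)).index = 2 ^ 46 * prodL lF := by
    apply Nat.eq_of_mul_eq_mul_left (show 0 < 13314363375889615257343125 by norm_num)
    have e1 : 13314363375889615257343125 * (2 ^ 46 * prodL lF) =
      808017424794512875886459904961710757005754368000000000 := by decide +kernel
    rw [e1, ← hfin]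
    ring
  have hfo : Odd f := by
    have h1 : Odd (13314363375889615257343125 * f) := by
      rw [← hcc]
      exact Nat.odd_mul.2 ⟨by decide, ho⟩
    exact (Nat.odd_mul.1 h1).2
  have h1 := okPair_spec (L := lF) (by simp [lF]; norm_num) rfl (by decide +kernel) ok_core hfo
    (okKs_spec (s := 59) (ks := [2, 29, 58]) (by decide +kernel) (by norm_num) hk hk1) hfin' hi
  exact absurd h1 (by simp)

end

end Cfsg.Agent.H795.Szep
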